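import Cfsg.Agent.Mrg.Omega.ML.InOf
import Cfsg.Agent.Mrg.Omega.ML.MinIrr
import Cfsg.Agent.Mrg.Omega.ML.Ex.Known

section


/-!
# The numerical criterion for exact offenders (K-list 'exact + low', (EXL) / (KK); helper102)

`H` acts faithfully on the finite elementary abelian 2-group `M`, `K` is normal in `H`, simple, `C_H(K) = 1`,
`A ≠ 1` is an elementary abelian subgroup with `|M| ≤ |A| |C_M(A)|` (exact groups and over-offenders).
`M` need not be irreducible, nothing about `T`.

* `exists_irr` : `K A` has a faithful irreducible section `N` of `M` with `|N| ≤ |A| |C_N(A)|`;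
* `exists_section` : so `|N| ≤ |K A| < c` (`CardB K c`: from `OutB`, `RK` or `|Aut K|`);
* **`false_of`** : `NX K` (`LB K n`, `CardB K (2 ^ n)`; `NX.of_card`, `of_rk`, `of_lt`, `of_aut`, `congr`) is impossible.
-/

set_option autoImplicit false
set_option linter.unusedVariables false
set_option linter.unusedSectionVars false

namespace Cfsg.Agent.Omega.ML.ExLow.NumX

open Subgroup Cfsg Cfsg.Agent.ClassTwoFusion.Quad Cfsg.Agent.Omega.NOThree.NoOver Cfsg.Agent.Omega.ML.CD
  Cfsg.Agent.Omega.ML.Num Cfsg.Agent.Omega.ML.MinFrame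
open Cfsg.Agent.Omega.Lie Cfsg.Agent.Omega.TwoF

universe u v w

section sec

variable {G : Type u} [Group G] [Finite G] {M : Type v} [Group M] [Finite M] [MulDistribMulAction G M]

theorem comm_of_sq {M : Type*} [Group M] (sq : ∀ m : M, m * m = 1) (m n : M) : m * n = n * m := by
  have h2 := sq (m * n)
  have h3 := sq m
  have h4 := sq n
  calc m * n = m * (m * n * (m * n)) * n := by rw [h2, mul_one]
    _ = (m * m) * n * m * (n * n) := by group
    _ = n * m := by rw [h3, h4, one_mul, mul_one]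

/-- submodules -/
theorem fo_sub (A : Subgroup G) (U : Subgroup M) (hU : ∀ g : G, ∀ u ∈ U, g • u ∈ U) (h : Nat.card M ≤ fo M A) :
    letI := subAct U hU
    Nat.card U ≤ fo U A := by
  let _ := subAct U hU
  show Nat.card U ≤ Nat.card A * Nat.card (cv U (A : Set G))
  have h1 : Nat.card (cv U (A : Set G)) = Nat.card (U ⊓ cv M (A : Set G) : Subgroup M) := by
    have h2 : (cv U (A : Set G)).map U.subtype = U ⊓ cv M (A : Set G) := by
      ext m
      constructor
      · rintro ⟨u, hu, rfl⟩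
        exact ⟨u.2, fun a ha => congrArg Subtype.val (hu a ha)⟩
      · rintro ⟨hm, hc⟩
        exact ⟨⟨m, hm⟩, fun a ha => Subtype.ext (hc a ha), rfl⟩
    rw [← h2]
    exact (Nat.card_congr ((cv U (A : Set G)).equivMapOfInjective _ U.subtype_injective).toEquiv)
  rw [h1]
  have h3 : Nat.card U * Nat.card (cv M (A : Set G)) ≤ Nat.card M * Nat.card (U ⊓ cv M (A : Set G) : Subgroup M) := by
    have h4 := card_mul_card_le U (cv M (A : Set G))
    exact h4.trans (Nat.mul_le_mul_right _ (card_le_card_group _))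
  have h5 : Nat.card M * Nat.card (U ⊓ cv M (A : Set G) : Subgroup M) ≤
      Nat.card A * Nat.card (cv M (A : Set G)) * Nat.card (U ⊓ cv M (A : Set G) : Subgroup M) :=
    Nat.mul_le_mul_right _ h
  have h6 : Nat.card U * Nat.card (cv M (A : Set G)) ≤
      Nat.card A * Nat.card (U ⊓ cv M (A : Set G) : Subgroup M) * Nat.card (cv M (A : Set G)) := by
    calc Nat.card U * Nat.card (cv M (A : Set G)) ≤ _ := h3.trans h5
      _ = _ := by ring
  exact Nat.le_of_mul_le_mul_right h6 Nat.card_pos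

/-- quotients -/
theorem fo_quo (A : Subgroup G) (U : Subgroup M) [U.Normal] (hU : ∀ g : G, ∀ u ∈ U, g • u ∈ U)
    (h : Nat.card M ≤ fo M A) :
    letI := modAct U hU
    Nat.card (M ⧸ U) ≤ fo (M ⧸ U) A := by
  let _ := modAct U hU
  show Nat.card (M ⧸ U) ≤ Nat.card A * Nat.card (cv (M ⧸ U) (A : Set G))
  have h1 : (cv M (A : Set G)).map (QuotientGroup.mk' U) ≤ cv (M ⧸ U) (A : Set G) := by
    rintro _ ⟨m, hm, rfl⟩
    intro a ha
    show QuotientGroup.mk (a • m) = (QuotientGroup.mk m : M ⧸ U)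
    rw [hm a ha]
  have h2 : Nat.card (cv M (A : Set G)) ≤ Nat.card ((cv M (A : Set G)).map (QuotientGroup.mk' U)) * Nat.card U := by
    have h3 : Nat.card ((QuotientGroup.mk' U).comp (cv M (A : Set G)).subtype).range *
        Nat.card ((QuotientGroup.mk' U).comp (cv M (A : Set G)).subtype).ker = Nat.card (cv M (A : Set G)) := by
      rw [card_eq_card_quotient_mul_card_subgroup ((QuotientGroup.mk' U).comp (cv M (A : Set G)).subtype).ker,
        Nat.card_congr (QuotientGroup.quotientKerEquivRange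
          ((QuotientGroup.mk' U).comp (cv M (A : Set G)).subtype)).toEquiv]
    have h4 : ((QuotientGroup.mk' U).comp (cv M (A : Set G)).subtype).range =
        (cv M (A : Set G)).map (QuotientGroup.mk' U) := by
      rw [MonoidHom.range_comp, range_subtype]
    have h5 : Nat.card ((QuotientGroup.mk' U).comp (cv M (A : Set G)).subtype).ker ≤ Nat.card U := by
      refine Nat.card_le_card_of_injective (fun x => (⟨((x : cv M (A : Set G)) : M), ?_⟩ : U)) ?_
      · have := x.2
        rw [MonoidHom.mem_ker] at this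
        exact (QuotientGroup.eq_one_iff _).1 this
      · intro x y hxy
        have h6 : (((x : cv M (A : Set G)) : M)) = ((y : cv M (A : Set G)) : M) := congrArg (fun z : U => (z : M)) hxy
        exact Subtype.ext (Subtype.ext h6)
    rw [← h3, h4]
    exact Nat.mul_le_mul_left _ h5
  have h3 : Nat.card (M ⧸ U) * Nat.card U = Nat.card M := (card_eq_card_quotient_mul_card_subgroup U).symm
  have hU0 : 0 < Nat.card U := Nat.card_pos
  suffices h9 : Nat.card (M ⧸ U) * Nat.card U ≤ Nat.card A * Nat.card (cv (M ⧸ U) (A : Set G)) * Nat.card U from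
    Nat.le_of_mul_le_mul_right h9 hU0
  rw [h3]
  calc Nat.card M ≤ Nat.card A * Nat.card (cv M (A : Set G)) := h
    _ ≤ Nat.card A * (Nat.card ((cv M (A : Set G)).map (QuotientGroup.mk' U)) * Nat.card U) :=
        Nat.mul_le_mul_left _ h2
    _ ≤ Nat.card A * (Nat.card (cv (M ⧸ U) (A : Set G)) * Nat.card U) :=
        Nat.mul_le_mul_left _ (Nat.mul_le_mul_right _ (card_le_of_le h1))
    _ = _ := by ring

end sec

section irr

variable {G : Type u} [Group G] [Finite G]

/-- `K` acts non-trivially -/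
def Mv (K : Subgroup G) (M : Type*) [Group M] [MulDistribMulAction G M] : Prop := ∃ k ∈ K, ∃ m : M, k • m ≠ m

theorem not_mv {K : Subgroup G} {M : Type*} [Group M] [MulDistribMulAction G M] (h : ¬ Mv K M) {k : G} (hk : k ∈ K)
    (m : M) : k • m = m := by
  by_contra hc
  exact h ⟨k, hk, m, hc⟩

/-- a perfect group which is trivial on `U` and on `M / U` is trivial on `M` -/
theorem mv_or {K : Subgroup G} (hK : _root_.commutator K = ⊤) {M : Type*} [Group M] [MulDistribMulAction G M]
    (hM : ∀ m n : M, m * n = n * m)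
    {U : Subgroup M} [U.Normal] (hU : ∀ g : G, ∀ u ∈ U, g • u ∈ U) (h : Mv K M) :
    (∃ k ∈ K, ∃ u ∈ U, k • u ≠ u) ∨ ∃ k ∈ K, ∃ m : M, m⁻¹ * k • m ∉ U := by
  by_contra hc
  rw [not_or] at hc
  obtain ⟨h1, h2⟩ := hc
  push Not at h1 h2
  obtain ⟨k, hk, m, hm⟩ := h
  apply hm
  have key : ∀ k ∈ K, ∀ l ∈ K, ∀ m : M, (k * l) • m = (l * k) • m := by
    intro k hk l hl m
    rw [mul_smul, mul_smul]
    have e1 : l • m = m * (m⁻¹ * l • m) := by group
    have e2 : k • m = m * (m⁻¹ * k • m) := by group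
    rw [e1, smul_mul', h1 k hk _ (h2 l hl m)]
    rw [show l • k • m = l • (m * (m⁻¹ * k • m)) by rw [← e2], smul_mul', h1 l hl _ (h2 k hk m)]
    generalize m⁻¹ * k • m = x at e2 ⊢
    generalize m⁻¹ * l • m = y at e1 ⊢
    rw [e2, e1, mul_assoc, mul_assoc, hM x y]
  let N : Subgroup K :=
    { carrier := {k | ∀ m : M, (k : G) • m = m}
      one_mem' := fun m => one_smul G m
      mul_mem' := fun {a b} ha hb m => by
        show ((a : G) * b) • m = m
        rw [mul_smul, hb, ha]
      inv_mem' := fun {a} ha m => by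
        show ((a : G)⁻¹) • m = m
        rw [inv_smul_eq_iff, ha] }
  have h3 : _root_.commutator K ≤ N := by
    rw [_root_.commutator_def, Subgroup.commutator_le]
    intro x _ y _ m
    show ((x : G) * y * (x : G)⁻¹ * (y : G)⁻¹) • m = m
    have h4 := key x x.2 y y.2 (((x : G)⁻¹ * (y : G)⁻¹) • m)
    rw [← mul_smul, ← mul_smul] at h4
    rw [show (x : G) * y * (x : G)⁻¹ * (y : G)⁻¹ = (x : G) * y * ((x : G)⁻¹ * (y : G)⁻¹) by group, h4,
      show (y : G) * x * ((x : G)⁻¹ * (y : G)⁻¹) = 1 by group, one_smul]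
  rw [hK] at h3
  exact h3 (mem_top ⟨k, hk⟩) m

/-- **an irreducible section** -/
theorem exists_irr {K A : Subgroup G} (hK : _root_.commutator K = ⊤) :
    ∀ (n : ℕ) (M : Type v) [Group M] [Finite M] [MulDistribMulAction G M], Nat.card M = n → (∀ m : M, m * m = 1) →
      Mv K M → Nat.card M ≤ fo M A → ∃ (N : Type v) (_ : Group N) (_ : Finite N) (_ : MulDistribMulAction G N),
        (∀ m : N, m * m = 1) ∧ Mv K N ∧ (∀ W : Subgroup N, (∀ h : G, ∀ w ∈ W, h • w ∈ W) → W = ⊥ ∨ W = ⊤) ∧
          Nat.card N ≤ fo N A := by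
  intro n
  induction n using Nat.strong_induction_on with
  | _ n ih =>
    intro M _ _ _ hn sq hmv hf
    by_cases hirr : ∀ W : Subgroup M, (∀ h : G, ∀ w ∈ W, h • w ∈ W) → W = ⊥ ∨ W = ⊤
    · exact ⟨M, inferInstance, inferInstance, inferInstance, sq, hmv, hirr, hf⟩
    · push Not at hirr
      obtain ⟨U, hU, hb, ht⟩ := hirr
      have hcomm := comm_of_sq sq
      have hUn : U.Normal := ⟨fun u hu g => by rw [hcomm g u, mul_assoc, mul_inv_cancel, mul_one]; exact hu⟩
      rcases mv_or hK hcomm hU hmv with h | h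
      · let _ := subAct U hU
        have hlt : Nat.card U < n := by
          rw [← hn]
          exact lt_of_le_of_ne (card_le_card_group _) fun h1 => ht (eq_top_of_card_eq _ h1)
        refine ih _ hlt U rfl (fun u => Subtype.ext (sq u)) ?_ (fo_sub A U hU hf)
        obtain ⟨k, hk, u, hu, hne⟩ := h
        exact ⟨k, hk, ⟨u, hu⟩, fun h1 => hne (congrArg Subtype.val h1)⟩
      · let _ := modAct U hU
        have h2 : 1 < Nat.card U := by
          rw [one_lt_card_iff_ne_bot]
          exact hb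
        have hlt : Nat.card (M ⧸ U) < n := by
          rw [← hn, card_eq_card_quotient_mul_card_subgroup U]
          exact (Nat.lt_mul_iff_one_lt_right Nat.card_pos).2 h2
        refine ih _ hlt (M ⧸ U) rfl (fun x => ?_) ?_ (fo_quo A U hU hf)
        · obtain ⟨m, rfl⟩ := QuotientGroup.mk_surjective x
          exact congrArg _ (sq m)
        · obtain ⟨k, hk, m, hne⟩ := h
          refine ⟨k, hk, QuotientGroup.mk m, fun h1 => hne ?_⟩
          have h3 : (QuotientGroup.mk (k • m) : M ⧸ U) = QuotientGroup.mk m := h1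
          exact QuotientGroup.eq.1 h3.symm

/-- faithfulness is automatic -/
theorem faith_of {K : Subgroup G} (hKn : K.Normal) (hKs : IsSimpleGroup K) (hc : centralizer (K : Set G) = ⊥)
    {N : Type*} [Group N] [MulDistribMulAction G N] (h : Mv K N) (g : G) (hg : ∀ m : N, g • m = m) : g = 1 := by
  let L : Subgroup G :=
    { carrier := {k | ∀ m : N, k • m = m}
      one_mem' := fun m => one_smul G m
      mul_mem' := fun {a b} ha hb m => by rw [mul_smul, hb, ha]
      inv_mem' := fun {a} ha m => by rw [inv_smul_eq_iff, ha] }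
  have hL : L.Normal := ⟨fun l hl x m => by
    rw [mul_smul, mul_smul, hl, smul_inv_smul]⟩
  have h1 : (L.subgroupOf K).Normal := inferInstance
  rcases hKs.eq_bot_or_eq_top_of_normal _ h1 with h2 | h2
  · have h3 : L ≤ centralizer (K : Set G) := by
      intro l hl
      rw [mem_centralizer_iff]
      intro k hk
      have h4 : k * l * k⁻¹ * l⁻¹ ∈ L := L.mul_mem (hL.conj_mem l hl k) (L.inv_mem hl)
      have h5 : k * l * k⁻¹ * l⁻¹ ∈ K := by
        rw [show k * l * k⁻¹ * l⁻¹ = k * (l * k⁻¹ * l⁻¹) by group]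
        exact K.mul_mem hk (hKn.conj_mem _ (K.inv_mem hk) l)
      have h6 : (⟨_, h5⟩ : K) ∈ L.subgroupOf K := h4
      rw [h2, mem_bot] at h6
      have h7 : k * l * k⁻¹ * l⁻¹ = 1 := congrArg Subtype.val h6
      rw [mul_inv_eq_one, mul_inv_eq_iff_eq_mul] at h7
      exact h7
    have h4 : g ∈ L := hg
    have h5 := h3 h4
    rwa [hc, mem_bot] at h5
  · exfalso
    obtain ⟨k, hk, m, hm⟩ := h
    apply hm
    have h3 : (⟨k, hk⟩ : K) ∈ L.subgroupOf K := h2 ▸ mem_top _
    exact h3 m

end irr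

section main

/-- `|X| < c` for `X = N A` almost simple with socle `N ≅ S`, `A` an elementary abelian 2-group. -/
def CardB (S : Type w) [Group S] (c : ℕ) : Prop :=
  ∀ (X : Type u) [Group X] [Finite X] (N : Subgroup X) [N.Normal], Nonempty (N ≃* S) →
    centralizer (N : Set X) = ⊥ → ∀ A : Subgroup X, (∀ a ∈ A, a * a = 1) → N ⊔ A = ⊤ → Nat.card X < c

theorem CardB.of_out {S : Type w} [Group S] {b c : ℕ} (h : OutB.{u} S b) (hc : Nat.card S * 2 ^ b < c) :
    CardB.{u} S c := by
  intro X _ _ N _ hN hcen A hA hX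
  have h1 := h X N hN hcen A hA hX
  obtain ⟨e⟩ := hN
  rw [← card_mul_index N, Nat.card_congr e.toEquiv]
  exact lt_of_le_of_lt (Nat.mul_le_mul_left _ h1) hc

theorem CardB.of_aut {S : Type w} [Group S] [Finite S] {c : ℕ} (h : Nat.card (MulAut S) < c) :
    CardB.{u} S c := by
  intro X _ _ N _ ⟨e⟩ hcen A hA hX
  exact lt_of_le_of_lt (Nat.le_of_dvd Nat.card_pos (Rk.card_dvd N e hcen)) h

theorem CardB.congr {S : Type v} [Group S] {S' : Type w} [Group S'] {c : ℕ} (h : CardB.{u} S c) (e : S ≃* S') :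
    CardB.{u} S' c :=
  fun X _ _ N _ hN hc A hA hX => h X N (hN.map fun f => f.trans e.symm) hc A hA hX

/-- the numerical condition -/
def NX (S : Type u) [Group S] : Prop :=
  ∃ n : ℕ, Heis.LB.{u, u, v} S n ∧ CardB.{u} S (2 ^ n)

/-- `LB S n`, `|S| ≤ 2 ^ N`, `OutB S b`, `N + b < n` -/
theorem NX.of_card {S : Type u} [Group S] {n b N : ℕ} (h1 : Heis.LB.{u, u, v} S n) (h2 : OutB.{u} S b)
    (h3 : Nat.card S ≤ 2 ^ N) (h4 : N + b < n) : NX.{u, v} S :=
  ⟨n, h1, CardB.of_out h2 (by
    calc Nat.card S * 2 ^ b ≤ 2 ^ N * 2 ^ b := Nat.mul_le_mul_right _ h3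
      _ = 2 ^ (N + b) := (pow_add _ _ _).symm
      _ < 2 ^ n := Nat.pow_lt_pow_right (by norm_num) h4)⟩

/-- the same with the 2-rank -/
theorem NX.of_rk {S : Type u} [Group S] {n b N : ℕ} (h1 : Heis.LB.{u, u, v} S n) (h2 : Rk.RK.{u} S b)
    (h3 : Nat.card S ≤ 2 ^ N) (h4 : N + b < n) : NX.{u, v} S :=
  NX.of_card h1 (OutB.of_rk h2) h3 h4

/-- the same with the exact orders: `|S| 2 ^ b < 2 ^ n` -/
theorem NX.of_lt {S : Type u} [Group S] {n b : ℕ} (h1 : Heis.LB.{u, u, v} S n) (h2 : OutB.{u} S b)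
    (h3 : Nat.card S * 2 ^ b < 2 ^ n) : NX.{u, v} S :=
  ⟨n, h1, CardB.of_out h2 h3⟩

/-- the same with `|Aut S| < 2 ^ n` -/
theorem NX.of_aut {S : Type u} [Group S] [Finite S] {n : ℕ} (h1 : Heis.LB.{u, u, v} S n)
    (h2 : Nat.card (MulAut S) < 2 ^ n) : NX.{u, v} S :=
  ⟨n, h1, CardB.of_aut h2⟩

/-- transport: everything computed in a model `S` of `K` -/
theorem NX.congr {K : Type u} [Group K] {S : Type w} [Group S] (e : K ≃* S) {n : ℕ}
    (h1 : Heis.LB.{w, u, v} S n) (h2 : CardB.{u} S (2 ^ n)) : NX.{u, v} K :=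
  ⟨n, h1.congr e.symm, h2.congr e.symm⟩

variable {H : Type u} [Group H] [Finite H] {M : Type v} [Group M] [Finite M] [MulDistribMulAction H M]
  {K A : Subgroup H}

/-- `K A` has a faithful irreducible section `N` of `M`, `|N| ≤ |K A| ≤ |K| 2 ^ b` -/
theorem exists_section (hKn : K.Normal) (hKs : IsSimpleGroup K) (hKp : _root_.commutator K = ⊤)
    (hc : centralizer (K : Set H) = ⊥)
    (sq : ∀ m : M, m * m = 1) (hmv : Mv K M) (el : ∀ a ∈ A, a * a = 1) (hA : A ≠ ⊥) (hf : Nat.card M ≤ fo M A)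
    {c : ℕ} (hb : CardB.{u} K c) :
    ∃ (N : Type v) (_ : Group N) (_ : Finite N) (_ : MulDistribMulAction (K ⊔ A : Subgroup H) N),
      (∀ m : N, m * m = 1) ∧ (∃ k : K, ∃ m : N, (⟨k, (le_sup_left : K ≤ K ⊔ A) k.2⟩ : (K ⊔ A : Subgroup H)) • m ≠ m) ∧
        Nat.card N < c := by
  set G : Subgroup H := K ⊔ A with hG
  have hKG : K ≤ G := le_sup_left
  have hAG : A ≤ G := le_sup_right
  have eK : K.subgroupOf G ≃* K := subgroupOfEquivOfLe hKG
  have eA : A.subgroupOf G ≃* A := subgroupOfEquivOfLe hAG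
  have hKn' : (K.subgroupOf G).Normal := inferInstance
  have hKs' : IsSimpleGroup (K.subgroupOf G) := by
    have : Nontrivial (K.subgroupOf G) := eK.toEquiv.nontrivial
    exact IsSimpleGroup.isSimpleGroup_of_surjective eK.symm.toMonoidHom eK.symm.surjective
  have hKp' : _root_.commutator (K.subgroupOf G) = ⊤ := by
    have h1 := congrArg (Subgroup.map eK.symm.toMonoidHom) hKp
    rw [_root_.map_commutator_eq, Subgroup.map_top_of_surjective _ eK.symm.surjective] at h1
    rwa [MonoidHom.range_eq_top.2 eK.symm.surjective, ← _root_.commutator_def] at h1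
  have hc' : centralizer ((K.subgroupOf G : Subgroup G) : Set G) = ⊥ := by
    rw [eq_bot_iff]
    intro g hg
    rw [mem_bot]
    apply Subtype.ext
    have h1 : (g : H) ∈ centralizer (K : Set H) := by
      rw [mem_centralizer_iff]
      intro k hk
      exact congrArg Subtype.val (mem_centralizer_iff.1 hg ⟨k, hKG hk⟩ hk)
    rw [hc, mem_bot] at h1
    exact h1
  have hmv' : Mv (K.subgroupOf G) M := by
    obtain ⟨k, hk, m, hm⟩ := hmv
    exact ⟨⟨k, hKG hk⟩, hk, m, hm⟩
  have hcv : cv M ((A.subgroupOf G : Subgroup G) : Set G) = cv M (A : Set H) := by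
    ext m
    exact ⟨fun h a ha => h ⟨a, hAG ha⟩ ha, fun h a ha => h a ha⟩
  have hf' : Nat.card M ≤ fo M (A.subgroupOf G) := by
    rw [fo, hcv, Nat.card_congr eA.toEquiv]
    exact hf
  obtain ⟨N, iN, fN, aN, sqN, mvN, irrN, hN⟩ := exists_irr (A := A.subgroupOf G) hKp' _ M rfl sq hmv' hf'
  refine ⟨N, iN, fN, aN, sqN, ?_, ?_⟩
  · obtain ⟨k, hk, m, hm⟩ := mvN
    exact ⟨⟨k, hk⟩, m, hm⟩
  have hp : IsPGroup 2 N := fun m => ⟨1, by rw [pow_one, pow_two]; exact sqN m⟩
  have h2 : IsPGroup 2 (A.subgroupOf G) := fun a => ⟨1, by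
    rw [pow_one, pow_two]
    exact Subtype.ext (Subtype.ext (el _ a.2))⟩
  obtain ⟨a, ha⟩ := IsPGroup.iff_card.1 h2
  have ha0 : a ≠ 0 := by
    rintro rfl
    rw [pow_zero, Nat.card_congr eA.toEquiv, card_eq_one] at ha
    exact hA ha
  have h3 := Glob.exact_off Nat.prime_two hp (faith_of hKn' hKs' hc' mvN) irrN ha ha0 hN
  refine lt_of_le_of_lt h3 (hb G (K.subgroupOf G) ⟨eK⟩ hc' (A.subgroupOf G) (fun a ha => Subtype.ext (el _ ha)) ?_)
  rw [← subgroupOf_sup hKG hAG]
  exact subgroupOf_self _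

/-- **the numerical criterion for exact offenders** -/
theorem false_of (hKn : K.Normal) (hKs : IsSimpleGroup K) (hKp : _root_.commutator K = ⊤)
    (hc : centralizer (K : Set H) = ⊥)
    (sq : ∀ m : M, m * m = 1) (hmv : Mv K M) (el : ∀ a ∈ A, a * a = 1) (hA : A ≠ ⊥) (hf : Nat.card M ≤ fo M A)
    (hS : NX.{u, v} K) : False := by
  obtain ⟨n, hl, hb⟩ := hS
  obtain ⟨N, iN, fN, aN, sqN, ⟨k, m, hm⟩, hN⟩ := exists_section hKn hKs hKp hc sq hmv el hA hf hb
  have hcomm := comm_of_sq sqN
  let _ : CommGroup N := { iN with mul_comm := hcomm }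
  have hp : IsPGroup 2 N := fun m => ⟨1, by rw [pow_one, pow_two]; exact sqN m⟩
  let φ : K →* MulAut N :=
    (MulDistribMulAction.toMulAut (K ⊔ A : Subgroup H) N).comp (inclusion (le_sup_left : K ≤ K ⊔ A))
  have h1 := hl K (MonoidHom.id K) (fun x => ⟨x, rfl⟩) (by rw [MonoidHom.ker_id]; exact bot_le)
    (by rw [MonoidHom.ker_id, card_bot]; exact odd_one) hKp N hp φ (by
      intro h2
      apply hm
      exact congrArg (fun e : MulAut N => e m) (DFunLike.congr_fun h2 k))
  omega

end main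

end Cfsg.Agent.Omega.ML.ExLow.NumX

end

section


/-!
# K-list 'exact + low': the numerical criterion over `InX` (helper102)

* `perfect` : `K` is perfect;  `mv` : `K` moves `M`;
* **`deadX : DeadX fun S _ => NX S`**.
-/

set_option autoImplicit false

universe u v w

namespace Cfsg.Agent.Omega.ML.ExLow.Dead

open Subgroup Cfsg Cfsg.Agent.Omega.NOThree.NoOver Cfsg.Agent.ClassTwoFusion.Quad
  Cfsg.Agent.Omega.ML.Ex Cfsg.Agent.Omega.ML.ExLow.NumX

section main

variable {H : Type u} [Group H] {M : Type v} [Group M] [MulDistribMulAction H M] {K T A : Subgroup H}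

theorem perfect (h : InX H M K T A) : _root_.commutator K = ⊤ := by
  have hs := h.simple
  rcases hs.eq_bot_or_eq_top_of_normal (_root_.commutator K) inferInstance with h1 | h1
  · exfalso
    apply h.not_comm
    intro a b
    have h2 : a * b * a⁻¹ * b⁻¹ ∈ _root_.commutator K := by
      rw [_root_.commutator_def]
      exact commutator_mem_commutator (mem_top a) (mem_top b)
    rw [h1, mem_bot, mul_inv_eq_one, mul_inv_eq_iff_eq_mul] at h2
    exact h2
  · exact h1

theorem mv [Finite H] (h : InX H M K T A) : Mv K M := by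
  have hs := h.simple
  obtain ⟨x, hx⟩ := exists_ne (1 : K)
  by_contra hcon
  exact hx (Subtype.ext (h.faith x fun m => not_mv hcon x.2 m))

theorem card_le_fo [Finite H] [Finite M] (h : InX H M K T A) : Nat.card M ≤ fo M A := by
  rw [fo, ← h.exact, mul_comm, card_mul_index]

/-- **The numerical criterion over `InX`.** -/
theorem false_of [Finite H] [Finite M] (h : InX H M K T A) (hS : NX.{u, v} K) : False :=
  NumX.false_of h.norm h.simple (perfect h) h.cen h.sq (mv h) h.el h.A_ne_bot (card_le_fo h) hS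

end main

/-- **All numerical rows.** -/
theorem deadX : DeadX.{u, v} fun S _ => NX.{u, v} S :=
  fun _ _ _ _ _ _ _ _ _ _ h hS => false_of h hS

/-- a class of groups with `NX` is dead -/
theorem deadX_of {𝒮 : ∀ (S : Type u) [Group S], Prop} (h : ∀ (S : Type u) [Group S], 𝒮 S → NX.{u, v} S) :
    DeadX.{u, v} 𝒮 :=
  deadX.mono h

end Cfsg.Agent.Omega.ML.ExLow.Dead

end
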