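import Cfsg.Agent.Mrg.Omega.ML.ExLow.NumX
import Cfsg.Agent.Mrg.Omega.ML.OddPsl
import Cfsg.Agent.ClassicalGeometry.PSL2Basic
import Cfsg.Agent.S0813


/-!
# K-list 'exact + low', numerical rows: `PSL_n(q)`, `q` odd, `n ≥ 3`, `(n, q) ≠ (3, 3)` (helper102)

`LB = q^(n-1) - 1`; `RK = rk n + 2`; `|Aut PSL_4(3)| < 2^26`.
-/

set_option autoImplicit false

universe u v w

namespace Cfsg.Agent.Omega.ML.ExLow.XPsl

open Cfsg Matrix Cfsg.Agent.Omega.Lie Cfsg.Agent.Omega.TwoF Cfsg.Agent.Omega.KFacts Cfsg.Agent.Omega.ML.Num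
  Cfsg.Agent.Omega.ML.ExLow.NumX

section main

variable {F : Type} [Field F] [Fintype F]

theorem card_pgl_four (hF : Fintype.card F = 3) : Nat.card (Matrix.ProjGenLinGroup (Fin 4) F) = 12130560 := by
  have h := ClassicalGeometry.PSL2Basic.card_PGL_mul (n := Fin 4) (F := F)
  rw [Matrix.card_GL_field, hF] at h
  have h2 : ∏ i : Fin 4, (3 ^ 4 - 3 ^ (i : ℕ)) = 24261120 := by decide
  rw [h2] at h
  omega

theorem nx_of_equiv {K : Type u} [Group K] {k : ℕ} (hk : 2 ≤ k) (h2 : (2 : F) ≠ 0)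
    (hx : ¬ (k = 2 ∧ Nat.card F = 3)) (e : K ≃* Matrix.ProjectiveSpecialLinearGroup (Fin (k + 1)) F) :
    NX.{u, v} K := by
  obtain ⟨h, hh2, hq⟩ := OddPsl.ne_of_two h2
  have hlb : Heis.LB.{u, u, v} K (Nat.card F ^ k - 1) :=
    (PslLB.lb.{u, v} h2 (n := k + 1) (by omega) (m := Nat.card F ^ k - 1) (by simp)).congr e.symm
  have hrk : Rk.RK.{u} K (RkLin.rk (k + 1) + 2) :=
    ((RkPSL.rkAut h2 (n := k + 1) (by omega)).rk).of_equiv e.symm
  have hcard : Nat.card K ≤ 2 ^ ((k * k + 2 * k) * h) := by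
    rw [Nat.card_congr e.toEquiv]
    refine (OddPsl.card_le k (by omega)).trans ?_
    rw [hq, mul_comm (k * k + 2 * k) h, pow_mul]
    exact Nat.pow_le_pow_left (OddPsl.le_two_pow h hh2) _
  rcases Nat.lt_or_ge k 4 with hk4 | hk4
  · obtain rfl | rfl : k = 2 ∨ k = 3 := by omega
    · have hr : RkLin.rk 3 = 2 := by decide
      rw [hr] at hrk
      have hh3 : 3 ≤ h := by
        by_contra hlt
        exact hx ⟨rfl, by omega⟩
      by_cases h3 : h = 3
      · subst h3
        have hq5 : Nat.card F = 5 := by omega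
        refine NX.of_lt hlb (OutB.of_rk hrk) ?_
        rw [Nat.card_congr e.toEquiv, hq5]
        have h := Cfsg.Agent.S0243.result (F := F) (q := 5) (by rw [← hq5, Nat.card_eq_fintype_card]) 3 (by norm_num)
        have h1 : Nat.gcd 3 (5 - 1) = 1 := by decide
        have h2 : ∏ i : Fin 3, (5 ^ 3 - 5 ^ (i : ℕ)) = 1488000 := by decide
        rw [h1, h2] at h
        change Nat.card (Matrix.ProjectiveSpecialLinearGroup (Fin 3) F) * 2 ^ 4 < 2 ^ 24
        omega
      · refine NX.of_rk hlb hrk hcard ?_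
        obtain ⟨m, rfl⟩ : ∃ m, h = m + 4 := ⟨h - 4, by omega⟩
        rw [hq, show 2 * (m + 4) - 1 = 2 * m + 7 by omega]
        have h5 : (2 * m + 7) ^ 2 - 1 = 4 * m * m + 28 * m + 48 := by
          rw [show (2 * m + 7) ^ 2 = 4 * m * m + 28 * m + 48 + 1 by ring]
          exact Nat.add_sub_cancel _ _
        rw [h5]
        norm_num
        nlinarith [Nat.zero_le (m * m)]
    · by_cases h3 : h = 2
      · subst h3
        have hq3 : Nat.card F = 3 := by omega
        have hq3' : Fintype.card F = 3 := by rw [← hq3, Nat.card_eq_fintype_card]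
        have h26 : Nat.card F ^ 3 - 1 = 26 := by rw [hq3]; norm_num
        rw [h26] at hlb
        refine ⟨26, hlb, (CardB.of_aut (S := Matrix.ProjectiveSpecialLinearGroup (Fin (3 + 1)) F) ?_).congr e.symm⟩
        have : Fact (Nat.Prime 3) := ⟨by norm_num⟩
        have h := Cfsg.Agent.S0813.result (F := F) 3 1 le_rfl (by rw [hq3', pow_one]) 4 (by norm_num) (by norm_num)
        rw [card_pgl_four hq3'] at h
        change Nat.card (MulAut (Matrix.ProjectiveSpecialLinearGroup (Fin 4) F)) < 2 ^ 26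
        rw [h]
        norm_num
      · have hr : RkLin.rk 4 = 4 := by decide
        rw [hr] at hrk
        refine NX.of_rk hlb hrk hcard ?_
        obtain ⟨m, rfl⟩ : ∃ m, h = m + 3 := ⟨h - 3, by omega⟩
        rw [hq, show 2 * (m + 3) - 1 = 2 * m + 5 by omega]
        have h5 : (2 * m + 5) ^ 3 - 1 = 8 * m * m * m + 60 * m * m + 150 * m + 124 := by
          rw [show (2 * m + 5) ^ 3 = 8 * m * m * m + 60 * m * m + 150 * m + 124 + 1 by ring]
          exact Nat.add_sub_cancel _ _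
        rw [h5]
        norm_num
        nlinarith [Nat.zero_le (m * m), Nat.zero_le (m * m * m)]
  · have hr : RkLin.rk (k + 1) = k := by
      unfold RkLin.rk
      rw [if_neg (by omega)]
      omega
    rw [hr] at hrk
    refine NX.of_rk hlb hrk hcard ?_
    have h5 := OddPsl.num_big hh2 hk4
    rw [← hq] at h5
    omega

end main

/-- **`PSL_n(q)`, `q` odd**: `n = 2`, or `(n, q) = (3, 3)`, or `NX` -/
theorem psl {K : Type u} [Group K] (h : OddChar @IsPSLChar K) :
    (∃ (F : Type) (_ : Field F) (_ : Fintype F), Odd (Fintype.card F) ∧ 3 < Fintype.card F ∧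
      Nonempty (K ≃* Matrix.ProjectiveSpecialLinearGroup (Fin 2) F)) ∨
    (∃ (F : Type) (_ : Field F) (_ : Fintype F), Fintype.card F = 3 ∧
      Nonempty (K ≃* Matrix.ProjectiveSpecialLinearGroup (Fin 3) F)) ∨ NX.{u, v} K := by
  obtain ⟨p, hp, hp2, F, _, _, _, n, hn, h4, ⟨e⟩⟩ := h
  have h2 : (2 : F) ≠ 0 := by
    intro h0
    have h1 : ((2 : ℕ) : F) = 0 := by exact_mod_cast h0
    rw [CharP.cast_eq_zero_iff F p] at h1
    exact hp2 ((Nat.prime_dvd_prime_iff_eq hp Nat.prime_two).1 h1)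
  rcases Nat.lt_or_ge n 3 with h3 | h3
  · left
    obtain rfl : n = 2 := by omega
    obtain ⟨h, hh, hq⟩ := OddPsl.ne_of_two h2
    rw [Nat.card_eq_fintype_card] at hq
    have h5 := h4 rfl
    refine ⟨F, _, _, ?_, h5, ⟨e⟩⟩
    rw [hq, Nat.odd_iff]
    omega
  · right
    obtain ⟨k, rfl⟩ : ∃ k, n = k + 1 := ⟨n - 1, by omega⟩
    by_cases hx : k = 2 ∧ Nat.card F = 3
    · left
      obtain ⟨rfl, hF⟩ := hx
      exact ⟨F, _, _, by rw [← hF, Nat.card_eq_fintype_card], ⟨e⟩⟩
    · right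
      exact nx_of_equiv (by omega) h2 hx e

end Cfsg.Agent.Omega.ML.ExLow.XPsl
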