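import Cfsg.Agent.Mrg.Omega.ML.ExLow.NumX
import Cfsg.Agent.Mrg.Omega.ML.OddExc
import Cfsg.Agent.Mrg.Omega.ML.RowPsp
import Cfsg.Agent.Mrg.Omega.ML.OddPsl

section


/-!
# K-list 'exact + low', numerical rows: `PSU_n(q)`, `q` odd, `n ≥ 3`, `(n, q) ≠ (3, 3), (4, 3)` (helper102)

`LB = (q - 1) q^(n-2)` (`ord_p(2) q^(n-2)` for `q = 3, 5`), `RK = rk n + 1`.
-/

set_option autoImplicit false

universe u v w

namespace Cfsg.Agent.Omega.ML.ExLow.XPsu

open Cfsg Cfsg.Agent.Omega.TwoF Cfsg.Agent.Omega.KFacts Cfsg.Agent.Omega.ML.Num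
open Cfsg.Agent.Omega.Lie Cfsg.Agent.Omega.ML.ExLow.NumX
open Cfsg.Agent.Omega.ML.PsuNum
open Cfsg.Agent.LieClassical.HermBasic

theorem rkCongr {S : Type*} [Group S] {K : Type u} [Group K] (e : S ≃* K) {n b N : ℕ}
    (h1 : Heis.LB.{_, u, v} S n) (h2 : Rk.RK.{u} S b) (h4 : Nat.card S ≤ 2 ^ N) (h5 : N + b < n) :
    NX.{u, v} K :=
  NX.of_rk (h1.congr e) (h2.of_equiv e) (by rwa [← Nat.card_congr e.toEquiv]) h5

/-- `|U_3(5)| = 126000` -/
theorem card_three_five {F : Type*} [Field F] [Fintype F] (hF : Fintype.card F = 5 ^ 2) :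
    Nat.card (PSU 3 F 5) = 126000 := by
  have h := Cfsg.Agent.S0280.result hF 3 (by norm_num)
  have h1 : Nat.gcd 3 (5 + 1) = 3 := by decide
  have h2 : ∏ i ∈ Finset.range 3, (if Even i then 5 ^ (i + 1) + 1 else 5 ^ (i + 1) - 1) = 18144 := by
    simp [Finset.prod_range_succ, Nat.even_iff]
  rw [h1, h2] at h
  norm_num at h
  omega

/-- **`NX` for `PSU_n(q)`, `q` odd.** -/
theorem nx {F : Type*} [Field F] [Fintype F] {n q p : ℕ} (hF : Fintype.card F = q ^ 2) (h2 : (2 : F) ≠ 0)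
    (hp : p.Prime) [CharP F p] (hn : 3 ≤ n) (h33 : ¬ (n = 3 ∧ q = 3)) (h43 : ¬ (n = 4 ∧ q = 3))
    {K : Type u} [Group K] (e : PSU n F q ≃* K) : NX.{u, v} K := by
  have hlb := PsuLB.lb.{u, _, v} hF h2 hp hn h43
  have hrk := rk_psu.{u} hF h2 hn
  have hp2 : p ≠ 2 := by
    rintro rfl
    exact h2 (by exact_mod_cast CharP.cast_eq_zero F 2)
  have hc := RowPsl.two_le_order hp hp2
  have hpq := PsuLB.p_dvd hF hp
  have hq1 := two_le hF
  obtain ⟨f, hf⟩ : ∃ f, q = p ^ f := by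
    obtain ⟨a, _, ha⟩ := FiniteField.card F p
    have h6 : q ∣ p ^ (a : ℕ) := by
      rw [← ha, hF]
      exact dvd_pow_self q (by norm_num)
    obtain ⟨f, _, hf⟩ := (Nat.dvd_prime_pow hp).1 h6
    exact ⟨f, hf⟩
  have hodd : Odd q := by
    rw [hf]
    exact (hp.odd_of_ne_two hp2).pow
  have hq3 : 3 ≤ q := by
    obtain ⟨m, hm⟩ := hodd
    omega
  have hl := le_two_pow q
  by_cases hn3 : n = 3
  · subst hn3
    have hr : RkLin.rk 3 + 1 = 3 := by decide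
    rw [hr] at hrk
    have hq5 : 5 ≤ q := by
      obtain ⟨m, hm⟩ := hodd
      omega
    by_cases h5 : q = 5
    · subst h5
      obtain rfl : p = 5 := (Nat.prime_dvd_prime_iff_eq hp (by norm_num)).1 hpq
      have h11 : 4 * 5 ≤ orderOf (2 : ZMod 5) * 5 ^ (3 - 2) := by
        have := RowPsl.order_five
        omega
      refine NX.of_lt (b := 3) ((hlb.congr e).mono h11) (OutB.of_rk (hrk.of_equiv e)) ?_
      rw [← Nat.card_congr e.toEquiv, card_three_five hF]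
      norm_num
    · have h7 : 7 ≤ q := by
        obtain ⟨m, hm⟩ := hodd
        omega
      refine rkCongr e (PsuTorus.lb.{u, _, v} (n := 3) hF h2 le_rfl (by omega) (fun _ => h7)) hrk
        (card_le_two_pow hF (by norm_num) hl) ?_
      show (q / 4 + 2) * 8 + 3 < (q - 1) * q ^ 1
      obtain ⟨m, rfl⟩ : ∃ m, q = m + 1 := ⟨q - 1, by omega⟩
      rw [Nat.add_sub_cancel, pow_one]
      have h8 : (m + 1) / 4 * 4 ≤ m + 1 := Nat.div_mul_le_self _ _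
      nlinarith
  by_cases hn4 : n = 4
  · subst hn4
    have hr : RkLin.rk 4 + 1 = 5 := by decide
    rw [hr] at hrk
    have hq5 : 5 ≤ q := by
      obtain ⟨m, hm⟩ := hodd
      omega
    refine rkCongr e (PsuTorus.lb.{u, _, v} (n := 4) hF h2 (by norm_num) (by omega) (fun h => by omega)) hrk
      (card_le_two_pow hF (by norm_num) hl) ?_
    show (q / 4 + 2) * 15 + 5 < (q - 1) * q ^ 2
    obtain ⟨m, rfl⟩ : ∃ m, q = m + 1 := ⟨q - 1, by omega⟩
    rw [Nat.add_sub_cancel]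
    have h8 : (m + 1) / 4 * 4 ≤ m + 1 := Nat.div_mul_le_self _ _
    have h9 : 4 * 4 ≤ m * m := Nat.mul_le_mul (by omega) (by omega)
    nlinarith
  obtain ⟨j, rfl⟩ : ∃ j, n = j + 5 := ⟨n - 5, by omega⟩
  have hr : RkLin.rk (j + 5) + 1 = j + 5 := by
    rw [RkLin.rk, if_neg (by omega)]
    omega
  rw [hr] at hrk
  have hlb' : Heis.LB.{_, u, v} (PSU (j + 5) F q) (orderOf (2 : ZMod p) * q ^ (j + 3)) := hlb
  have hc' : 2 * q ^ (j + 3) ≤ orderOf (2 : ZMod p) * q ^ (j + 3) := Nat.mul_le_mul_right _ hc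
  by_cases hq5 : 5 ≤ q
  · refine rkCongr e hlb' hrk (card_le_two_pow hF (by omega) hl) ?_
    have h8 : 24 * (q / 4 + 2) + 9 ≤ 2 * q ^ 3 := by
      have h9 : 24 * (q / 4 + 2) + 9 ≤ 6 * q + 57 := by omega
      nlinarith [Nat.mul_le_mul hq5 hq5, Nat.mul_le_mul (Nat.mul_le_mul hq5 hq5) hq5]
    have h9 := ineq_five (j := j) (by omega) h8
    rw [mul_comm ((j + 5) ^ 2 - 1)] at h9
    omega
  · obtain rfl : q = 3 := by
      obtain ⟨m, hm⟩ := hodd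
      omega
    have hl2 : 3 ≤ 2 ^ 2 := by norm_num
    refine rkCongr e hlb' hrk (card_le_two_pow hF (by omega) hl2) ?_
    rcases Nat.eq_zero_or_pos j with rfl | hj
    · have h9 : 2 * 27 ≤ orderOf (2 : ZMod p) * 27 := Nat.mul_le_mul_right _ hc
      show 2 * (5 ^ 2 - 1) + 5 < orderOf (2 : ZMod p) * 27
      omega
    · obtain ⟨i, rfl⟩ : ∃ i, j = i + 1 := ⟨j - 1, by omega⟩
      have h9 := ineq_three i
      rw [mul_comm ((i + 6) ^ 2 - 1)] at h9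
      have h10 : 2 * 3 ^ (i + 4) ≤ orderOf (2 : ZMod p) * 3 ^ (i + 4) := Nat.mul_le_mul_right _ hc
      show 2 * ((i + 6) ^ 2 - 1) + (i + 6) < orderOf (2 : ZMod p) * 3 ^ (i + 4)
      omega

/-- **The row `PSU_n(q)`, `q` odd.** -/
theorem psu (K : Type u) [Group K] (h : OddChar @IsPSUChar K) (h33 : ¬ IsU 3 3 K) (h43 : ¬ IsUFourThree K) :
    NX.{u, v} K := by
  obtain ⟨p, hp, hp2, F, _, _, _, n, q, hF, hn, h32, ⟨e⟩⟩ := h
  have h2 : (2 : F) ≠ 0 := by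
    intro h0
    have h1 : ((2 : ℕ) : F) = 0 := by exact_mod_cast h0
    rw [CharP.cast_eq_zero_iff F p] at h1
    exact hp2 ((Nat.prime_dvd_prime_iff_eq hp Nat.prime_two).1 h1)
  refine nx hF h2 hp hn ?_ ?_ e.symm
  · rintro ⟨rfl, rfl⟩
    exact h33 ⟨F, _, _, hF, ⟨e⟩⟩
  · rintro ⟨rfl, rfl⟩
    exact h43 ⟨F, _, _, by rw [hF]; norm_num, ⟨e⟩⟩

end Cfsg.Agent.Omega.ML.ExLow.XPsu

end

section


/-!
# K-list 'exact + low', numerical rows: `PSp_2m(q)`, `q` odd, `m ≥ 3`, `(m, q) ≠ (3, 3), (4, 3)` (helper393)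

`LB = ord_p(2) q^(m-1)`, `RK = 2m`.
-/

set_option autoImplicit false

universe u v w

namespace Cfsg.Agent.Omega.ML.ExLow.XPsp

open Cfsg Cfsg.Agent.Omega.Lie Cfsg.Agent.Omega.TwoF Cfsg.Agent.Omega.KFacts Cfsg.Agent.Omega.ML.Num
  Cfsg.Agent.Omega.ML.ExLow.NumX

/-- transport of `NX.of_rk` -/
theorem congr_rk {K : Type u} [Group K] {S : Type w} [Group S] (e : K ≃* S) {n b N : ℕ}
    (h1 : Heis.LB.{w, u, v} S n) (h2 : Rk.RK.{u} S b) (h3 : Nat.card S ≤ 2 ^ N) (h4 : N + b < n) : NX.{u, v} K :=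
  NX.of_rk (h1.congr e.symm) (h2.of_equiv e.symm) (by rwa [Nat.card_congr e.toEquiv]) h4

/-! ### numbers -/

/-- `m (2m + 1) h + 2m`, `m = k + 3` -/
def L (h k : ℕ) : ℕ := (k + 3) * (2 * k + 7) * h + (2 * k + 6)

theorem L_succ (h k : ℕ) : L h (k + 1) ≤ 3 * L h k := by
  unfold L
  have h1 : (k + 1 + 3) * (2 * (k + 1) + 7) ≤ 3 * ((k + 3) * (2 * k + 7)) := by nlinarith
  have h2 := Nat.mul_le_mul_right h h1
  nlinarith

theorem L_step {h k : ℕ} (hh : 2 ≤ h) (h1 : L h k < 2 * (2 * h - 1) ^ (k + 2)) :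
    L h (k + 1) < 2 * (2 * h - 1) ^ (k + 1 + 2) := by
  have h2 : (2 * h - 1) ^ (k + 1 + 2) = (2 * h - 1) ^ (k + 2) * (2 * h - 1) := pow_succ _ (k + 2)
  have h3 : (2 * h - 1) ^ (k + 2) * 3 ≤ (2 * h - 1) ^ (k + 2) * (2 * h - 1) := Nat.mul_le_mul_left _ (by omega)
  have h4 := L_succ h k
  rw [h2]
  omega

/-- `q = 2h - 1 ≤ 2^h`, `m = k + 3` -/
theorem num {h k : ℕ} (hk : 4 ≤ h ∨ (3 ≤ h ∧ 1 ≤ k) ∨ (2 ≤ h ∧ 2 ≤ k)) : L h k < 2 * (2 * h - 1) ^ (k + 2) := by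
  rcases hk with hk | ⟨hh, hk⟩ | ⟨hh, hk⟩
  · induction k with
    | zero =>
      obtain ⟨m, rfl⟩ : ∃ m, h = m + 4 := ⟨h - 4, by omega⟩
      have h1 : 2 * (m + 4) - 1 = 2 * m + 7 := by omega
      unfold L
      rw [h1]
      norm_num
      nlinarith [Nat.zero_le (m * m)]
    | succ k ih => exact L_step (by omega) ih
  · induction k, hk using Nat.le_induction with
    | base =>
      obtain ⟨m, rfl⟩ : ∃ m, h = m + 3 := ⟨h - 3, by omega⟩
      have h1 : 2 * (m + 3) - 1 = 2 * m + 5 := by omega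
      unfold L
      rw [h1]
      norm_num
      nlinarith [Nat.zero_le (m * m), Nat.zero_le (m * m * m)]
    | succ k hk ih => exact L_step (by omega) ih
  · induction k, hk using Nat.le_induction with
    | base =>
      obtain ⟨m, rfl⟩ : ∃ m, h = m + 2 := ⟨h - 2, by omega⟩
      have h1 : 2 * (m + 2) - 1 = 2 * m + 3 := by omega
      unfold L
      rw [h1]
      norm_num
      nlinarith [Nat.zero_le (m * m), Nat.zero_le (m * m * m), Nat.zero_le (m * m * m * m)]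
    | succ k hk ih => exact L_step (by omega) ih

section main

variable {F : Type} [Field F] [Fintype F] {p : ℕ} [Fact p.Prime] [CharP F p] {K : Type u} [Group K]

theorem nx_of_equiv (hp2 : p ≠ 2) {m : ℕ} (hm : 3 ≤ m) (h33 : ¬ (m = 3 ∧ Nat.card F = 3))
    (h43 : ¬ (m = 4 ∧ Nat.card F = 3)) (e : K ≃* PSp m F) : NX.{u, v} K := by
  obtain ⟨k, rfl⟩ : ∃ k, m = k + 3 := ⟨m - 3, by omega⟩
  have h2 : (2 : F) ≠ 0 := RowPsp.two_ne (p := p) hp2
  obtain ⟨h, hh, hq⟩ := OddPsl.ne_of_two h2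
  have h3 : RkLin.rk (k + 3 + (k + 3)) + 1 = 2 * k + 6 := by
    rw [RkLin.rk, if_neg (by omega)]
    omega
  have h4 : Rk.RK.{u} (PSp (k + 3) F) (2 * k + 6) := h3 ▸ RowPsp.rk_of_aut (RkPSp.rkAut h2 (by omega))
  have hlb := PspOdd.lb.{0, u, v} (F := F) (p := p) hp2 (m := k + 3) (by omega)
  have hcard : Nat.card (PSp (k + 3) F) ≤ 2 ^ ((k + 3) * (2 * k + 7) * h) := by
    refine (RowPsp.card_le (F := F) (m := k + 3) (RowPsp.odd_card (p := p) hp2) (by omega)).trans ?_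
    rw [← Nat.card_eq_fintype_card, hq, show 2 * (k + 3) + 1 = 2 * k + 7 by ring,
      mul_comm ((k + 3) * (2 * k + 7)) h, pow_mul 2 h]
    exact Nat.pow_le_pow_left (OddPsl.le_two_pow h hh) _
  by_cases h5 : k = 0 ∧ h = 3
  · obtain ⟨rfl, rfl⟩ := h5
    refine congr_rk e hlb h4 hcard ?_
    have hF : Fintype.card F = 5 := by
      rw [← Nat.card_eq_fintype_card]
      omega
    have hp5 : p = 5 := by
      obtain ⟨n, hp, hn⟩ := FiniteField.card F p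
      rw [hF] at hn
      exact (Nat.prime_dvd_prime_iff_eq hp Nat.prime_five).1 (hn ▸ dvd_pow_self p n.pos.ne')
    have h6 := RowPsp.four_le_ord (p := p) hp2 (by omega) (by omega)
    rw [hq]
    norm_num
    omega
  · refine congr_rk e hlb h4 hcard ?_
    have h6 := num (h := h) (k := k) (by omega)
    unfold L at h6
    rw [← hq] at h6
    have h7 : 2 * Nat.card F ^ (k + 2) ≤ orderOf (2 : ZMod p) * Nat.card F ^ (k + 2) :=
      Nat.mul_le_mul_right _ (RowPsp.two_le_ord hp2)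
    exact lt_of_lt_of_le h6 h7

end main

/-- `PSp_4(q)`, `q` odd -/
def IsPSpFourOdd (K : Type u) [Group K] : Prop :=
  ∃ (F : Type) (_ : Field F) (_ : Fintype F), Odd (Fintype.card F) ∧ Nonempty (K ≃* PSp 2 F)

/-- `PSp_6(3)`, `PSp_8(3)` -/
def IsPSpThree (m : ℕ) (K : Type u) [Group K] : Prop :=
  ∃ (F : Type) (_ : Field F) (_ : Fintype F), Fintype.card F = 3 ∧ Nonempty (K ≃* PSp m F)

/-- **`PSp_2m(q)`, `q` odd**: `m = 2`, or `(m, q) = (3, 3), (4, 3)`, or `NX` -/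
theorem psp {K : Type u} [Group K] (h : OddChar @IsPSpChar K) :
    IsPSpFourOdd K ∨ IsPSpThree 3 K ∨ IsPSpThree 4 K ∨ NX.{u, v} K := by
  obtain ⟨p, hp, hp2, F, _, _, _, m, hm, -, ⟨e⟩⟩ := h
  have : Fact p.Prime := ⟨hp⟩
  rcases Nat.lt_or_ge m 3 with h5 | h5
  · obtain rfl : m = 2 := by omega
    exact Or.inl ⟨F, _, _, RowPsp.odd_card (p := p) hp2, ⟨e⟩⟩
  by_cases h33 : m = 3 ∧ Nat.card F = 3
  · obtain ⟨rfl, hF⟩ := h33
    exact Or.inr (Or.inl ⟨F, _, _, by rw [← hF, Nat.card_eq_fintype_card], ⟨e⟩⟩)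
  by_cases h43 : m = 4 ∧ Nat.card F = 3
  · obtain ⟨rfl, hF⟩ := h43
    exact Or.inr (Or.inr (Or.inl ⟨F, _, _, by rw [← hF, Nat.card_eq_fintype_card], ⟨e⟩⟩))
  · exact Or.inr (Or.inr (Or.inr (nx_of_equiv (p := p) hp2 h5 h33 h43 e)))

end Cfsg.Agent.Omega.ML.ExLow.XPsp

end
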